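import Mathlib
import Groth.Agent.ProjDeg.K657.HilbCI

/-! Specialisation at a `k`-rational point `y`: the pencil ideal `J`, its saturation and the Hilbert
function of the saturation. -/

set_option autoImplicit false

open MvPolynomial K657.HilbFun K657.HilbDim K657.HilbMult

namespace K78.FU

universe u

attribute [local instance] MvPolynomial.gradedAlgebra

variable {k : Type u} [Field k] {n : ℕ}

section comp

variable {σ : Type*} {h x : MvPolynomial σ k} {d a : ℕ}

theorem comp_eq (hh : h.IsHomogeneous d) (hd : 1 ≤ d) (hx : x.IsHomogeneous a)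
    (u : Polynomial k) (j : ℕ) :
    homogeneousComponent (d * j + a) (Polynomial.aeval h u * x) = C (u.coeff j) * h ^ j * x := by
  have h0 : ∀ i, ((u.coeff i • h ^ i) * x).IsHomogeneous (d * i + a) := fun i => by
    rw [MvPolynomial.smul_eq_C_mul]
    have h1 := ((isHomogeneous_C σ (u.coeff i)).mul (hh.pow i)).mul hx
    rwa [zero_add] at h1
  rw [Polynomial.aeval_eq_sum_range' (n := max (u.natDegree + 1) (j + 1)) (by omega),
    Finset.sum_mul, map_sum, Finset.sum_eq_single j]
  · rw [homogeneousComponent_of_mem ((mem_homogeneousSubmodule _ _).mpr (h0 j)), if_pos rfl,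
      MvPolynomial.smul_eq_C_mul]
  · intro i _ hij
    rw [homogeneousComponent_of_mem ((mem_homogeneousSubmodule _ _).mpr (h0 i)), if_neg]
    intro h2
    apply hij
    have : d * j = d * i := by omega
    exact (Nat.eq_of_mul_eq_mul_left hd this).symm
  · intro h1
    exact absurd (Finset.mem_range.mpr (by omega)) h1

theorem comp_zero (hh : h.IsHomogeneous d) (hx : x.IsHomogeneous a)
    (u : Polynomial k) (t : ℕ) (ht : ∀ j, d * j + a ≠ t) :
    homogeneousComponent t (Polynomial.aeval h u * x) = 0 := by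
  have h0 : ∀ i, ((u.coeff i • h ^ i) * x).IsHomogeneous (d * i + a) := fun i => by
    rw [MvPolynomial.smul_eq_C_mul]
    have h1 := ((isHomogeneous_C σ (u.coeff i)).mul (hh.pow i)).mul hx
    rwa [zero_add] at h1
  rw [Polynomial.aeval_eq_sum_range, Finset.sum_mul, map_sum]
  refine Finset.sum_eq_zero fun i _ => ?_
  rw [homogeneousComponent_of_mem ((mem_homogeneousSubmodule _ _).mpr (h0 i)), if_neg]
  exact fun h2 => ht i h2.symm

end comp

variable (F : Fin (n + 1) → MvPolynomial (Fin (n + 1)) k) (y : Fin (n + 1) → k)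

/-- The forms `y₀ F_i − y_i F₀`. -/
noncomputable def fJ (i : Fin n) : MvPolynomial (Fin (n + 1)) k :=
  C (y 0) * F i.succ - C (y i.succ) * F 0

/-- The ideal of the fibre over `y` (with the base scheme). -/
noncomputable def J : Ideal (MvPolynomial (Fin (n + 1)) k) := Ideal.span (Set.range (fJ F y))

/-- Restriction of functions of `Y` to the line through `y`. -/
noncomputable def psi : MvPolynomial (Fin (n + 1)) k →ₐ[k] Polynomial k :=
  aeval fun i => Polynomial.C (y i / y 0) * Polynomial.X

theorem eval_psi (hy : y 0 ≠ 0) (p : MvPolynomial (Fin (n + 1)) k) :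
    (psi y p).eval (y 0) = eval y p := by
  have h : (Polynomial.aeval (y 0)).comp (psi y) = (aeval y : _ →ₐ[k] k) := by
    apply MvPolynomial.algHom_ext
    intro i
    simp [psi, hy]
  have h1 := DFunLike.congr_fun h p
  simpa [MvPolynomial.aeval_eq_eval, Polynomial.coe_aeval_eq_eval] using h1

theorem psi_ne_zero (hy : y 0 ≠ 0) {p : MvPolynomial (Fin (n + 1)) k} (hp : eval y p ≠ 0) :
    psi y p ≠ 0 := by
  rintro h
  apply hp
  rw [← eval_psi y hy, h, Polynomial.eval_zero]

theorem aeval_sub_mem (hy : y 0 ≠ 0) (p : MvPolynomial (Fin (n + 1)) k) :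
    aeval F p - Polynomial.aeval (F 0) (psi y p) ∈ J F y := by
  have h : (Ideal.Quotient.mkₐ k (J F y)).comp (aeval F) =
      ((Ideal.Quotient.mkₐ k (J F y)).comp (Polynomial.aeval (F 0))).comp (psi y) := by
    apply MvPolynomial.algHom_ext
    intro i
    simp only [AlgHom.comp_apply, aeval_X, psi, map_mul, Polynomial.aeval_X, Polynomial.aeval_C,
      Ideal.Quotient.mkₐ_eq_mk]
    rw [← map_mul, Ideal.Quotient.mk_eq_mk_iff_sub_mem, MvPolynomial.algebraMap_eq]
    induction i using Fin.cases with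
    | zero => rw [div_self hy, map_one, one_mul, sub_self]; exact zero_mem _
    | succ i =>
      have h1 : F i.succ - C (y i.succ / y 0) * F 0 = C (y 0)⁻¹ * fJ F y i := by
        rw [fJ, mul_sub, ← mul_assoc, ← mul_assoc, ← map_mul, ← map_mul, inv_mul_cancel₀ hy,
          map_one, one_mul, div_eq_inv_mul]
      rw [h1]
      exact Ideal.mul_mem_left _ _ (Ideal.subset_span ⟨i, rfl⟩)
  have h1 := DFunLike.congr_fun h p
  rw [AlgHom.comp_apply, AlgHom.comp_apply, AlgHom.comp_apply, Ideal.Quotient.mkₐ_eq_mk,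
    Ideal.Quotient.mk_eq_mk_iff_sub_mem] at h1
  exact h1

/-- The element of `k[Y]` mapping to `fJ`. -/
noncomputable def fY (i : Fin n) : MvPolynomial (Fin (n + 1)) k :=
  C (y 0) * X i.succ - C (y i.succ) * X 0

theorem aeval_fY (i : Fin n) : aeval F (fY y i) = fJ F y i := by
  simp [fY, fJ, MvPolynomial.algebraMap_eq]

theorem psi_fY (hy : y 0 ≠ 0) (i : Fin n) : psi y (fY y i) = 0 := by
  simp only [psi, fY, map_sub, map_mul, aeval_C, aeval_X, Polynomial.algebraMap_eq,
    div_self hy, map_one, one_mul]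
  rw [← mul_assoc, ← map_mul, mul_div_cancel₀ _ hy, sub_self]

section main

variable {D : ℕ} {e : Fin D → (Fin (n + 1) →₀ ℕ)}
  (hli : ∀ p : Fin D → MvPolynomial (Fin (n + 1)) k,
        ∑ l, aeval F (p l) * monomial (e l) 1 = 0 → ∀ l, p l = 0)
  {g : MvPolynomial (Fin (n + 1)) k}
  (hg : ∀ x : MvPolynomial (Fin (n + 1)) k,
        ∃ (M : ℕ) (p : Fin D → MvPolynomial (Fin (n + 1)) k),
          aeval F (g ^ M) * x = ∑ l, aeval F (p l) * monomial (e l) 1)

include hli hg in
theorem psi_eq_zero (hy : y 0 ≠ 0) (hgy : eval y g ≠ 0)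
    (p : Fin D → MvPolynomial (Fin (n + 1)) k)
    (hp : ∑ l, aeval F (p l) * monomial (e l) 1 ∈ J F y) (l : Fin D) : psi y (p l) = 0 := by
  classical
  obtain ⟨a, ha⟩ := Ideal.mem_span_range_iff_exists_fun.mp hp
  choose M q hq using fun i => hg (a i)
  have h1 : ∀ i, aeval F (g ^ (∑ j, M j)) * a i =
      ∑ l, aeval F (g ^ (∑ j ∈ Finset.univ.erase i, M j) * q i l) * monomial (e l) 1 := by
    intro i
    rw [← Finset.sum_erase_add _ _ (Finset.mem_univ i), pow_add, map_mul, mul_assoc, hq,
      Finset.mul_sum]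
    exact Finset.sum_congr rfl fun l _ => by rw [map_mul, mul_assoc]
  set q' : Fin n → Fin D → MvPolynomial (Fin (n + 1)) k :=
    fun i l => g ^ (∑ j ∈ Finset.univ.erase i, M j) * q i l with hq'
  have h2 : ∑ l, aeval F (g ^ (∑ j, M j) * p l - ∑ i, fY y i * q' i l) * monomial (e l) 1 = 0 := by
    simp only [map_sub, sub_mul, Finset.sum_sub_distrib, map_mul, map_sum, mul_assoc,
      ← Finset.mul_sum, aeval_fY]
    rw [← ha, Finset.mul_sum, sub_eq_zero]
    simp only [Finset.sum_mul]
    rw [Finset.sum_comm]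
    refine Finset.sum_congr rfl fun i _ => ?_
    have h3 : aeval F (g ^ (∑ j, M j)) * (a i * fJ F y i) =
        fJ F y i * (aeval F (g ^ (∑ j, M j)) * a i) := by ring
    rw [h3, h1, Finset.mul_sum]
    exact Finset.sum_congr rfl fun l _ => by ring
  have h3 := hli _ h2 l
  have h4 := congrArg (psi y) h3
  have h5 : ∑ i, psi y (fY y i * q' i l) = 0 :=
    Finset.sum_eq_zero fun i _ => by rw [map_mul, psi_fY y hy, zero_mul]
  rw [map_sub, map_mul, map_sum, map_zero, h5, sub_zero, map_pow] at h4
  exact (mul_eq_zero.mp h4).resolve_left (pow_ne_zero _ (psi_ne_zero y hy hgy))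

include hli hg in
theorem u_eq_zero (hy : y 0 ≠ 0) (hgy : eval y g ≠ 0) (N : ℕ) (u : Fin D → Polynomial k)
    (hu : F 0 ^ N * ∑ l, Polynomial.aeval (F 0) (u l) * monomial (e l) 1 ∈ J F y) (l : Fin D) :
    u l = 0 := by
  let p : Fin D → MvPolynomial (Fin (n + 1)) k := fun l =>
    Polynomial.aeval (X 0) (Polynomial.X ^ N * u l)
  have h1 : ∀ l, aeval F (p l) = F 0 ^ N * Polynomial.aeval (F 0) (u l) := by
    intro l
    have h2 : (aeval F).comp (Polynomial.aeval (X 0)) =
        (Polynomial.aeval (F 0) : Polynomial k →ₐ[k] _) := by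
      apply Polynomial.algHom_ext
      simp
    have h3 := DFunLike.congr_fun h2 (Polynomial.X ^ N * u l)
    rw [AlgHom.comp_apply] at h3
    rw [show p l = _ from rfl, h3, map_mul, map_pow, Polynomial.aeval_X]
  have h2 : ∑ l, aeval F (p l) * monomial (e l) 1 ∈ J F y := by
    have : ∑ l, aeval F (p l) * monomial (e l) 1 =
        F 0 ^ N * ∑ l, Polynomial.aeval (F 0) (u l) * monomial (e l) 1 := by
      rw [Finset.mul_sum]
      exact Finset.sum_congr rfl fun l _ => by rw [h1, mul_assoc]
    rw [this]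
    exact hu
  have h3 := psi_eq_zero F y hli hg hy hgy p h2 l
  have h4 : psi y (p l) = Polynomial.X ^ N * u l := by
    have h5 : (psi y).comp (Polynomial.aeval (X 0)) = AlgHom.id k (Polynomial k) := by
      apply Polynomial.algHom_ext
      simp [psi, hy]
    exact DFunLike.congr_fun h5 (Polynomial.X ^ N * u l)
  rw [h4] at h3
  exact (mul_eq_zero.mp h3).resolve_left (pow_ne_zero _ Polynomial.X_ne_zero)


theorem isHomogeneous_fJ {d : ℕ} (hF : ∀ i, (F i).IsHomogeneous d) (i : Fin n) :
    (fJ F y i).IsHomogeneous d := by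
  have h1 := (isHomogeneous_C (Fin (n + 1)) (y 0)).mul (hF i.succ)
  have h2 := (isHomogeneous_C (Fin (n + 1)) (y i.succ)).mul (hF 0)
  rw [zero_add] at h1 h2
  exact h1.sub h2

theorem isHomogeneous_J {d : ℕ} (hF : ∀ i, (F i).IsHomogeneous d) :
    (J F y).IsHomogeneous (homogeneousSubmodule (Fin (n + 1)) k) := by
  apply Ideal.homogeneous_span
  rintro _ ⟨i, rfl⟩
  exact ⟨d, isHomogeneous_fJ F y hF i⟩

include hg in
/-- Elements of degree `m` are combinations of the `F₀^a r_l` modulo the saturation. -/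
theorem exists_coeff {d : ℕ} (hd : 1 ≤ d) (hF : ∀ i, (F i).IsHomogeneous d) (hy : y 0 ≠ 0)
    (hgy : eval y g ≠ 0) {m : ℕ} (hm : ∀ l, (e l).degree ≤ m)
    {x : MvPolynomial (Fin (n + 1)) k} (hx : x.IsHomogeneous m) :
    ∃ (N : ℕ) (c : Fin D → k), F 0 ^ N * (x - ∑ l, if (e l).degree % d = m % d then
      C (c l) * F 0 ^ ((m - (e l).degree) / d) * monomial (e l) 1 else 0) ∈ J F y := by
  classical
  obtain ⟨M, p, hp⟩ := hg x
  -- modulo `J`
  have h1 : Polynomial.aeval (F 0) (psi y (g ^ M)) * x -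
      ∑ l, Polynomial.aeval (F 0) (psi y (p l)) * monomial (e l) 1 ∈ J F y := by
    have h2 : Polynomial.aeval (F 0) (psi y (g ^ M)) * x -
        ∑ l, Polynomial.aeval (F 0) (psi y (p l)) * monomial (e l) 1 =
        ∑ l, (aeval F (p l) - Polynomial.aeval (F 0) (psi y (p l))) * monomial (e l) 1 -
          (aeval F (g ^ M) - Polynomial.aeval (F 0) (psi y (g ^ M))) * x := by
      simp only [sub_mul, Finset.sum_sub_distrib]
      rw [hp]; ring
    rw [h2]
    refine Ideal.sub_mem _ (Ideal.sum_mem _ fun l _ => Ideal.mul_mem_right _ _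
      (aeval_sub_mem F y hy _)) (Ideal.mul_mem_right _ _ (aeval_sub_mem F y hy _))
  set G := psi y (g ^ M) with hG
  have hG0 : G ≠ 0 := by
    rw [hG, map_pow]
    exact pow_ne_zero _ (psi_ne_zero y hy hgy)
  set N := G.natDegree with hN
  have hGN : G.coeff N ≠ 0 := Polynomial.leadingCoeff_ne_zero.mpr hG0
  have h2 := homogeneousComponent_mem_of_mem (K78.FU.isHomogeneous_J F y hF) h1 (d * N + m)
  rw [map_sub, map_sum, comp_eq (hF 0) hd hx] at h2
  refine ⟨N, fun l => (G.coeff N)⁻¹ * (psi y (p l)).coeff (N + (m - (e l).degree) / d), ?_⟩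
  have h3 : ∀ l, homogeneousComponent (d * N + m)
      (Polynomial.aeval (F 0) (psi y (p l)) * monomial (e l) 1) =
      if (e l).degree % d = m % d then
        C ((psi y (p l)).coeff (N + (m - (e l).degree) / d)) *
          F 0 ^ (N + (m - (e l).degree) / d) * monomial (e l) 1 else 0 := by
    intro l
    have hml := hm l
    have hmon : (monomial (e l) (1 : k)).IsHomogeneous (e l).degree :=
      isHomogeneous_monomial _ rfl
    split_ifs with h4
    · have h5 : d ∣ m - (e l).degree := (Nat.modEq_iff_dvd' hml).mp h4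
      have h6 : d * (N + (m - (e l).degree) / d) + (e l).degree = d * N + m := by
        rw [mul_add, Nat.mul_div_cancel' h5]
        omega
      rw [← h6, comp_eq (hF 0) hd hmon]
    · refine comp_zero (hF 0) hmon _ _ fun j hj => h4 ?_
      have h5 : (d * j + (e l).degree) % d = (d * N + m) % d := by rw [hj]
      rwa [Nat.mul_add_mod, Nat.mul_add_mod] at h5
  rw [Finset.sum_congr rfl fun l _ => h3 l] at h2
  have h4 := Ideal.mul_mem_left _ (C (G.coeff N)⁻¹) h2
  convert h4 using 1
  have h5 : (C (G.coeff N)⁻¹ : MvPolynomial (Fin (n + 1)) k) * C (G.coeff N) = 1 := by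
    rw [← map_mul, inv_mul_cancel₀ hGN, map_one]
  rw [mul_sub, mul_sub, ← mul_assoc, ← mul_assoc, h5, one_mul, Finset.mul_sum, Finset.mul_sum]
  congr 1
  refine Finset.sum_congr rfl fun l _ => ?_
  split_ifs with h6
  · rw [map_mul, pow_add]; ring
  · simp

include hli hg in
/-- The Hilbert function of the saturation. -/
theorem hF_sat {d : ℕ} (hd : 1 ≤ d) (hF' : ∀ i, (F i).IsHomogeneous d) (hy : y 0 ≠ 0)
    (hgy : eval y g ≠ 0) {N₀ : ℕ}
    (hN₀ : ∀ N x, F 0 ^ N * x ∈ J F y → F 0 ^ N₀ * x ∈ J F y)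
    {m : ℕ} (hm : ∀ l, (e l).degree ≤ m) :
    hF (col (J F y) (F 0 ^ N₀)) m =
      (Finset.univ.filter fun l => (e l).degree % d = m % d).card := by
  classical
  set Γ := col (J F y) (F 0 ^ N₀) with hΓ
  rw [← finrank_V]
  let S := {l : Fin D // (e l).degree % d = m % d}
  let b : S → MvPolynomial (Fin (n + 1)) k ⧸ Γ := fun l =>
    Ideal.Quotient.mk Γ (F 0 ^ ((m - (e l.1).degree) / d) * monomial (e l.1) 1)
  have hbV : ∀ l, b l ∈ V Γ m := by
    intro l
    rw [mem_V]
    refine ⟨_, ?_, rfl⟩
    have hml := hm l.1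
    have h5 : d ∣ m - (e l.1).degree := (Nat.modEq_iff_dvd' hml).mp l.2
    have h6 := ((hF' 0).pow ((m - (e l.1).degree) / d)).mul
      (isHomogeneous_monomial (1 : k) (rfl : (e l.1).degree = (e l.1).degree))
    rwa [Nat.mul_div_cancel' h5, Nat.sub_add_cancel hml] at h6
  have hmk : ∀ (c : k) (z : MvPolynomial (Fin (n + 1)) k),
      c • Ideal.Quotient.mk Γ z = Ideal.Quotient.mk Γ (C c * z) := by
    intro c z
    rw [← MvPolynomial.smul_eq_C_mul]
    rfl
  have hspan : Submodule.span k (Set.range b) = V Γ m := by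
    apply le_antisymm
    · rw [Submodule.span_le]
      rintro _ ⟨l, rfl⟩
      exact hbV l
    · intro v hv
      obtain ⟨x, hx, rfl⟩ := mem_V.mp hv
      obtain ⟨N, c, hc⟩ := exists_coeff F y hg hd hF' hy hgy hm hx
      have h1 := hN₀ _ _ hc
      rw [← mem_col, ← hΓ, ← Ideal.Quotient.mk_eq_mk_iff_sub_mem, map_sum] at h1
      rw [h1]
      refine Submodule.sum_mem _ fun l _ => ?_
      split_ifs with h2
      · rw [mul_assoc, ← hmk]
        exact Submodule.smul_mem _ _ (Submodule.subset_span ⟨⟨l, h2⟩, rfl⟩)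
      · rw [map_zero]; exact zero_mem _
  have hbli : LinearIndependent k b := by
    rw [Fintype.linearIndependent_iff]
    intro c hc l
    have h1 : ∑ l, c l • b l = Ideal.Quotient.mk Γ
        (∑ l : S, C (c l) * (F 0 ^ ((m - (e l.1).degree) / d) * monomial (e l.1) 1)) := by
      rw [map_sum]
      exact Finset.sum_congr rfl fun l _ => hmk _ _
    rw [h1, Ideal.Quotient.eq_zero_iff_mem, hΓ, mem_col] at hc
    let u : Fin D → Polynomial k := fun l => if h : (e l).degree % d = m % d then
      Polynomial.C (c ⟨l, h⟩) * Polynomial.X ^ ((m - (e l).degree) / d) else 0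
    have h2 : ∑ l, Polynomial.aeval (F 0) (u l) * monomial (e l) 1 =
        ∑ l : S, C (c l) * (F 0 ^ ((m - (e l.1).degree) / d) * monomial (e l.1) 1) := by
      have h3 : ∑ l, Polynomial.aeval (F 0) (u l) * monomial (e l) 1 =
          ∑ l ∈ Finset.univ.filter (fun l => (e l).degree % d = m % d),
            Polynomial.aeval (F 0) (u l) * monomial (e l) 1 := by
        symm
        apply Finset.sum_subset (Finset.filter_subset _ _)
        intro l _ hl
        have hl' : ¬ (e l).degree % d = m % d := fun h => hl (by simp [h])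
        simp only [u, dif_neg hl', map_zero, zero_mul]
      rw [h3, Finset.sum_subtype (p := fun l => (e l).degree % d = m % d) _ (by simp)]
      refine Finset.sum_congr rfl fun l _ => ?_
      simp only [u, dif_pos l.2, map_mul, map_pow, Polynomial.aeval_X, Polynomial.aeval_C,
        MvPolynomial.algebraMap_eq, mul_assoc]
    rw [← h2] at hc
    have h3 := u_eq_zero F y hli hg hy hgy N₀ u hc l.1
    simp only [u, dif_pos l.2] at h3
    rw [mul_eq_zero] at h3
    rcases h3 with h3 | h3
    · exact Polynomial.C_eq_zero.mp h3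
    · exact absurd h3 (pow_ne_zero _ Polynomial.X_ne_zero)
  rw [← hspan, finrank_span_eq_card hbli, Fintype.card_subtype]

end main

end K78.FU
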