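import Mathlib
import Groth.Agent.W4c1frobunstiva.K78.Satur

/-! The numerical part: `D + dδ ≤ d^{n+1}` and the equality criterion. -/

set_option autoImplicit false

open MvPolynomial K657.HilbFun K657.HilbDim K657.HilbMult K657.PolyDiff

namespace K78.FU

universe u

attribute [local instance] MvPolynomial.gradedAlgebra

variable {k : Type u} [Field k] {n : ℕ}

section gen

variable {σ : Type*} [Finite σ]

theorem hF_anti {I J : Ideal (MvPolynomial σ k)} (h : I ≤ J) (m : ℕ) : hF J m ≤ hF I m := by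
  unfold hF
  apply Nat.sub_le_sub_left
  exact Submodule.finrank_mono (inf_le_inf_right _ h)

omit [Finite σ] in
theorem col_pow_succ (J : Ideal (MvPolynomial σ k)) (h : MvPolynomial σ k) (j : ℕ) :
    col (col J (h ^ j)) h = col J (h ^ (j + 1)) := by
  ext x
  rw [mem_col, mem_col, mem_col, pow_succ, mul_assoc]

omit [Finite σ] in
theorem col_mono {I J : Ideal (MvPolynomial σ k)} (h : I ≤ J) (g : MvPolynomial σ k) :
    col I g ≤ col J g := fun _ hx => h hx

omit [Finite σ] in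
theorem col_pow_mono (J : Ideal (MvPolynomial σ k)) (h : MvPolynomial σ k) :
    Monotone fun j => col J (h ^ j) :=
  monotone_nat_of_le_succ fun j x hx => by
    change h ^ (j + 1) * x ∈ J
    rw [pow_succ', mul_assoc]
    exact J.mul_mem_left _ hx

theorem exists_stable (J : Ideal (MvPolynomial σ k)) (h : MvPolynomial σ k) :
    ∃ N₀, ∀ N x, h ^ N * x ∈ J → h ^ N₀ * x ∈ J := by
  obtain ⟨N₀, hN₀⟩ := monotone_stabilizes_iff_noetherian.mpr
    (inferInstance : IsNoetherian (MvPolynomial σ k) (MvPolynomial σ k))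
    ⟨fun j => col J (h ^ j), col_pow_mono J h⟩
  refine ⟨N₀, fun N x hx => ?_⟩
  have h1 : x ∈ col J (h ^ max N N₀) := col_pow_mono J h (le_max_left N N₀) hx
  have h2 : col J (h ^ N₀) = col J (h ^ max N N₀) := hN₀ _ (le_max_right _ _)
  rw [← h2] at h1
  exact h1

/-- A constant Hilbert polynomial, in terms of the Hilbert function. -/
theorem exists_const {I : Ideal (MvPolynomial σ k)}
    (hI : I.IsHomogeneous (homogeneousSubmodule σ k)) (h0 : (hilb I).natDegree = 0) :
    ∃ c : ℕ, hilb I = Polynomial.C (c : ℚ) ∧ ∃ m₀, ∀ m, m₀ ≤ m → hF I m = c := by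
  obtain ⟨m₀, hm₀⟩ := isHilb_hilb hI
  refine ⟨hF I m₀, ?_, m₀, fun m hm => ?_⟩
  · rw [Polynomial.eq_C_of_natDegree_eq_zero h0] at hm₀ ⊢
    have h1 := hm₀ m₀ le_rfl
    rw [Polynomial.eval_C] at h1
    rw [h1]
  · rw [Polynomial.eq_C_of_natDegree_eq_zero h0] at hm₀
    have h1 := hm₀ m₀ le_rfl
    have h2 := hm₀ m hm
    rw [Polynomial.eval_C] at h1 h2
    rw [h1] at h2
    exact_mod_cast h2.symm

omit [Finite σ] in
/-- A prime over `J` of coheight one when `dim R/J = 1`. -/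
theorem exists_prime_of_dim {I J : Ideal (MvPolynomial σ k)} (hIJ : I ≤ J)
    (hdim : ringKrullDim (MvPolynomial σ k ⧸ I) ≤ 1)
    (hJ : ¬ ringKrullDim (MvPolynomial σ k ⧸ J) ≤ 0) :
    ∃ q ∈ I.minimalPrimes, J ≤ q ∧ ringKrullDim (MvPolynomial σ k ⧸ q) = 1 := by
  have h1 : ¬ Ring.KrullDimLE 0 (MvPolynomial σ k ⧸ J) := by
    rw [Ring.krullDimLE_iff]
    exact_mod_cast hJ
  rw [Ring.krullDimLE_zero_iff] at h1
  push Not at h1
  obtain ⟨p, hp, hpm⟩ := h1
  obtain ⟨m, hm, hpm'⟩ := Ideal.exists_le_maximal p hp.ne_top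
  have hlt : p < m := lt_of_le_of_ne hpm' fun h => hpm (h ▸ hm)
  set π := Ideal.Quotient.mk J
  have hπ : Function.Surjective π := Ideal.Quotient.mk_surjective
  have hlt' : p.comap π < m.comap π :=
    lt_of_le_of_ne (Ideal.comap_mono hpm') fun h =>
      hlt.ne (Ideal.comap_injective_of_surjective π hπ h)
  have hpp : (p.comap π).IsPrime := Ideal.comap_isPrime _ _
  have hmp : (m.comap π).IsPrime := Ideal.comap_isPrime _ _
  have hJp : J ≤ p.comap π := by
    intro x hx
    rw [Ideal.mem_comap, Ideal.Quotient.eq_zero_iff_mem.mpr hx]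
    exact zero_mem _
  have h2 := ringKrullDim_quotient_add_one_le_of_lt hlt'
  have h3 : (0 : WithBot ℕ∞) ≤ ringKrullDim (MvPolynomial σ k ⧸ m.comap π) :=
    have : Nontrivial (MvPolynomial σ k ⧸ m.comap π) := Ideal.Quotient.nontrivial_iff.mpr hmp.ne_top
    ringKrullDim_nonneg_of_nontrivial
  have h4 : (1 : WithBot ℕ∞) ≤ ringKrullDim (MvPolynomial σ k ⧸ p.comap π) := by
    refine le_trans ?_ h2
    calc (1 : WithBot ℕ∞) = 0 + 1 := (zero_add 1).symm
      _ ≤ _ := by gcongr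
  have h5 : ∀ q : Ideal (MvPolynomial σ k), I ≤ q →
      ringKrullDim (MvPolynomial σ k ⧸ q) ≤ 1 := fun q hq =>
    (ringKrullDim_quotient_anti hq).trans hdim
  refine ⟨p.comap π, ⟨⟨hpp, hIJ.trans hJp⟩, ?_⟩, hJp, le_antisymm (h5 _ (hIJ.trans hJp)) h4⟩
  rintro q ⟨hq, hIq⟩ hle
  by_contra hcon
  have hlt2 : q < p.comap π := lt_of_le_not_ge hle hcon
  have h6 := ringKrullDim_quotient_add_one_le_of_lt hlt2
  have h7 := h6.trans (h5 q hIq)
  have h8 : (1 : WithBot ℕ∞) + 1 ≤ 1 := le_trans (by gcongr) h7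
  exact absurd h8 (by decide)

end gen


theorem span_eq_sup (F : Fin (n + 1) → MvPolynomial (Fin (n + 1)) k) (y : Fin (n + 1) → k)
    (hy : y 0 ≠ 0) : Ideal.span (Set.range F) = J F y ⊔ Ideal.span {F 0} := by
  apply le_antisymm
  · rw [Ideal.span_le]
    rintro _ ⟨i, rfl⟩
    have h0 : F 0 ∈ J F y ⊔ Ideal.span {F 0} :=
      Ideal.mem_sup_right (Ideal.mem_span_singleton_self _)
    induction i using Fin.cases with
    | zero => exact h0
    | succ i =>
      have h1 : F i.succ = C (y 0)⁻¹ * fJ F y i + C ((y 0)⁻¹ * y i.succ) * F 0 := by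
        rw [fJ, mul_sub, ← mul_assoc, ← mul_assoc, ← map_mul, ← map_mul, inv_mul_cancel₀ hy,
          map_one, one_mul, sub_add_cancel]
      rw [SetLike.mem_coe, h1]
      exact Ideal.add_mem _ (Ideal.mul_mem_left _ _
        (Ideal.mem_sup_left (Ideal.subset_span ⟨i, rfl⟩))) (Ideal.mul_mem_left _ _ h0)
  · rw [sup_le_iff, J, Ideal.span_le, Ideal.span_le]
    refine ⟨?_, ?_⟩
    · rintro _ ⟨i, rfl⟩
      exact Ideal.sub_mem _ (Ideal.mul_mem_left _ _ (Ideal.subset_span ⟨_, rfl⟩))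
        (Ideal.mul_mem_left _ _ (Ideal.subset_span ⟨_, rfl⟩))
    · rintro _ rfl
      exact Ideal.subset_span ⟨_, rfl⟩

theorem numeric {d : ℕ} (hd : 1 ≤ d) (F : Fin (n + 1) → MvPolynomial (Fin (n + 1)) k)
    (hF' : ∀ i, (F i).IsHomogeneous d) (y : Fin (n + 1) → k) (hy : y 0 ≠ 0)
    {D : ℕ} {e : Fin D → (Fin (n + 1) →₀ ℕ)}
    (hli : ∀ p : Fin D → MvPolynomial (Fin (n + 1)) k,
        ∑ l, aeval F (p l) * monomial (e l) 1 = 0 → ∀ l, p l = 0)
    {g : MvPolynomial (Fin (n + 1)) k}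
    (hg : ∀ x : MvPolynomial (Fin (n + 1)) k,
        ∃ (M : ℕ) (p : Fin D → MvPolynomial (Fin (n + 1)) k),
          aeval F (g ^ M) * x = ∑ l, aeval F (p l) * monomial (e l) 1)
    (hgy : eval y g ≠ 0)
    (hdim : ringKrullDim (MvPolynomial (Fin (n + 1)) k ⧸ Ideal.span (Set.range F)) ≤ 1)
    (δ : ℕ) (hδ : ∃ m₀, ∀ m, m₀ ≤ m → hF (Ideal.span (Set.range F)) m = δ) :
    D + d * δ ≤ d ^ (n + 1) ∧ (D + d * δ = d ^ (n + 1) ↔
      ∀ q ∈ (Ideal.span (Set.range F)).minimalPrimes,
        ringKrullDim (MvPolynomial (Fin (n + 1)) k ⧸ q) = 1 → ¬ col (J F y) (F 0) ≤ q) := by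
  classical
  set I := Ideal.span (Set.range F) with hI
  have hIeq : I = J F y ⊔ Ideal.span {F 0} := span_eq_sup F y hy
  have hJh := isHomogeneous_J F y hF'
  have hIh : I.IsHomogeneous (homogeneousSubmodule (Fin (n + 1)) k) := by
    rw [hIeq]
    exact isHomogeneous_sup hJh (hF' 0)
  obtain ⟨N₀, hN₀⟩ := exists_stable (J F y) (F 0)
  have hcolh : ∀ j, (col (J F y) (F 0 ^ j)).IsHomogeneous
      (homogeneousSubmodule (Fin (n + 1)) k) := fun j => isHomogeneous_col hJh ((hF' 0).pow j)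
  set Γ := col (J F y) (F 0 ^ N₀) with hΓ
  have hΓle : ∀ j, col (J F y) (F 0 ^ j) ≤ Γ := fun j x hx => hN₀ j x hx
  -- the counting function
  let c : ℕ → ℕ := fun j => (Finset.univ.filter fun l => (e l).degree % d = j).card
  obtain ⟨m₁, hm₁⟩ : ∃ m₁, ∀ l, (e l).degree ≤ m₁ :=
    ⟨∑ l, (e l).degree, fun l => Finset.single_le_sum (f := fun l => (e l).degree)
      (fun _ _ => Nat.zero_le _) (Finset.mem_univ l)⟩
  have hcount : ∀ m, m₁ ≤ m → hF Γ m = c (m % d) := fun m hm =>
    hF_sat F y hli hg hd hF' hy hgy hN₀ fun l => (hm₁ l).trans hm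
  have hconst : ∀ j, j < d → hilb Γ = Polynomial.C (c j : ℚ) := by
    intro j hj
    obtain ⟨m₂, hm₂⟩ := isHilb_hilb (hcolh N₀)
    rw [← hΓ] at hm₂
    apply Polynomial.eq_of_infinite_eval_eq
    refine Set.Infinite.mono (s := Set.range fun t : ℕ => ((j + d * (m₁ + m₂ + t) : ℕ) : ℚ)) ?_ ?_
    · rintro _ ⟨t, rfl⟩
      have h1 : m₁ + m₂ + t ≤ d * (m₁ + m₂ + t) := Nat.le_mul_of_pos_left _ hd
      have h2 : m₂ ≤ j + d * (m₁ + m₂ + t) := by omega
      have h3 : m₁ ≤ j + d * (m₁ + m₂ + t) := by omega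
      change (hilb Γ).eval (((j + d * (m₁ + m₂ + t) : ℕ)) : ℚ) = _
      rw [hm₂ _ h2, hcount _ h3, Nat.add_mul_mod_self_left, Nat.mod_eq_of_lt hj,
        Polynomial.eval_C]
    · apply Set.infinite_range_of_injective
      intro t t' h
      have h' : j + d * (m₁ + m₂ + t) = j + d * (m₁ + m₂ + t') := Nat.cast_injective (R := ℚ) h
      have h'' : d * (m₁ + m₂ + t) = d * (m₁ + m₂ + t') := by omega
      have := Nat.eq_of_mul_eq_mul_left hd h''
      omega
  have hD : D = d * c 0 := by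
    have h1 : ∀ j, j < d → c j = c 0 := by
      intro j hj
      have h2 := (hconst j hj).symm.trans (hconst 0 hd)
      exact_mod_cast Polynomial.C_injective h2
    have h2 : (Finset.univ : Finset (Fin D)).card = ∑ j ∈ Finset.range d, c j :=
      Finset.card_eq_sum_card_fiberwise (f := fun l => (e l).degree % d) fun l _ => by
        simpa using Nat.mod_lt _ hd
    rw [Finset.card_univ, Fintype.card_fin, Finset.sum_congr rfl fun j hj =>
      h1 j (Finset.mem_range.mp hj), Finset.sum_const, Finset.card_range, smul_eq_mul] at h2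
    exact h2
  have hΓdeg : (hilb Γ).natDegree = 0 := by rw [hconst 0 hd, Polynomial.natDegree_C]
  have hIdeg : (hilb I).natDegree = 0 := by
    have h1 : ringKrullDim (MvPolynomial (Fin (n + 1)) k ⧸ I) ≤ ((0 + 1 : ℕ) : WithBot ℕ∞) := by
      simpa using hdim
    exact Nat.le_zero.mp ((dim_le_iff hIh 0).mp h1)
  -- the ideals `J : h^j`
  have hcolon : ∀ j, hilb (col (J F y) (F 0 ^ j)) =
      Polynomial.taylor (-(d : ℚ)) (hilb (col (J F y) (F 0 ^ (j + 1)))) +
        hilb (col (J F y) (F 0 ^ j) ⊔ Ideal.span {F 0}) := fun j => by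
    rw [hilb_colon (hcolh j) (hF' 0), col_pow_succ]
  have hsupdeg : ∀ j, (hilb (col (J F y) (F 0 ^ j) ⊔ Ideal.span {F 0})).natDegree = 0 := by
    intro j
    apply Nat.le_zero.mp
    refine le_trans ?_ hIdeg.le
    rw [hIeq]
    exact natDegree_hilb_mono (isHomogeneous_sup hJh (hF' 0))
      (isHomogeneous_sup (hcolh j) (hF' 0)) (sup_le_sup_right (le_col _ _) _)
  have hcoldeg : ∀ j, (hilb (col (J F y) (F 0 ^ j))).natDegree = 0 := by
    have h1 : ∀ j, (hilb (col (J F y) (F 0 ^ (j + 1)))).natDegree = 0 →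
        (hilb (col (J F y) (F 0 ^ j))).natDegree = 0 := by
      intro j h
      rw [hcolon j]
      apply Nat.le_zero.mp
      refine (Polynomial.natDegree_add_le _ _).trans ?_
      rw [Polynomial.natDegree_taylor, h, hsupdeg, max_self]
    intro j
    have h2 : ∀ t, (hilb (col (J F y) (F 0 ^ (j + t)))).natDegree = 0 →
        (hilb (col (J F y) (F 0 ^ j))).natDegree = 0 := by
      intro t
      induction t with
      | zero => exact id
      | succ t ih => exact fun h => ih (h1 _ h)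
    apply h2 N₀
    rw [le_antisymm (hΓle (j + N₀)) (col_pow_mono (J F y) (F 0) (Nat.le_add_left _ _))]
    exact hΓdeg
  have hcolone : col (J F y) (F 0 ^ 1) = col (J F y) (F 0) := by rw [pow_one]
  have hcolzero : col (J F y) (F 0 ^ 0) = J F y := by
    ext x; rw [mem_col, pow_zero, one_mul]
  -- the complete intersection `J`
  have hJdeg : (hilb (J F y)).natDegree = 0 := by rw [← hcolzero]; exact hcoldeg 0
  have hJdim : ringKrullDim (MvPolynomial (Fin (n + 1)) k ⧸ J F y) ≤ 1 := by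
    have := (dim_le_iff hJh 0).mpr hJdeg.le
    simpa using this
  obtain ⟨m₂, hm₂⟩ := K657.HilbCI.hF_span_range (fJ F y) (fun _ => d) (fun _ => hd)
    (isHomogeneous_fJ F y hF') hJdim
  obtain ⟨m₃, hm₃⟩ := hδ
  obtain ⟨a, ha, m₄, hm₄⟩ := exists_const (hcolh 1) (hcoldeg 1)
  rw [hcolone] at ha hm₄
  have hcolF : ∀ m, hF (col (J F y) (F 0)) m + hF I (d + m) = hF (J F y) (d + m) := fun m => by
    rw [hIeq]
    exact hF_colon hJh (hF' 0) m
  have hsum : a + δ = d ^ n := by
    have h1 := hcolF (m₂ + m₃ + m₄)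
    rw [hm₄ _ (by omega), hm₃ _ (by omega)] at h1
    rw [h1, J, hm₂ _ (by omega), Finset.prod_const, Finset.card_univ, Fintype.card_fin]
  have hle : c 0 ≤ a := by
    have h1 := hF_anti (hΓle 1) (d * (m₁ + m₄))
    have h2 : m₁ + m₄ ≤ d * (m₁ + m₄) := Nat.le_mul_of_pos_left _ hd
    rw [hcount _ (by omega), Nat.mul_mod_right, hcolone, hm₄ _ (by omega)] at h1
    exact h1
  have hmul : D + d * δ = d * (c 0 + δ) := by rw [hD]; ring
  have hcntΓ : ∀ m, m₁ ≤ m → hF Γ m = c 0 := by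
    intro m hm
    rw [hcount m hm]
    have h2 := (hconst (m % d) (Nat.mod_lt _ hd)).symm.trans (hconst 0 hd)
    exact_mod_cast Polynomial.C_injective h2
  refine ⟨?_, ?_⟩
  · rw [hmul, pow_succ', ← hsum]
    exact Nat.mul_le_mul_left _ (by omega)
  have hiff : D + d * δ = d ^ (n + 1) ↔ c 0 = a := by
    rw [hmul, pow_succ', ← hsum]
    constructor
    · intro h
      have := Nat.eq_of_mul_eq_mul_left hd h
      omega
    · intro h; rw [h]
  rw [hiff]
  constructor
  · intro hca q hq hdimq hcolq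
    have hqh := isHomogeneous_of_mem_minimalPrimes hIh hq
    have h1 : col (J F y) (F 0) ⊔ Ideal.span {F 0} ≤ q := by
      refine sup_le hcolq ?_
      rw [Ideal.span_le, Set.singleton_subset_iff]
      exact hq.1.2 (Ideal.subset_span ⟨0, rfl⟩)
    have h2 : hilb q ≠ 0 ∧ (hilb q).natDegree = 0 :=
      (dim_eq_iff hqh 0).mp (by simpa using hdimq)
    obtain ⟨b, hb, m₅, hm₅⟩ := exists_const hqh h2.2
    have hb0 : b ≠ 0 := by
      rintro rfl
      apply h2.1
      rw [hb, Nat.cast_zero, map_zero]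
    set m := m₁ + m₄ + m₅
    have h3 := hF_colon (hcolh 1) (hF' 0) m
    rw [col_pow_succ, hcolone] at h3
    have h4 := hF_anti (hΓle (1 + 1)) m
    rw [hcntΓ m (by omega)] at h4
    have h5 := hF_anti h1 (d + m)
    rw [hm₅ (d + m) (by omega)] at h5
    rw [hm₄ (d + m) (by omega)] at h3
    omega
  · intro hq
    have h1 : ringKrullDim (MvPolynomial (Fin (n + 1)) k ⧸
        (col (J F y) (F 0) ⊔ Ideal.span {F 0})) ≤ 0 := by
      by_contra hcon
      have hle' : I ≤ col (J F y) (F 0) ⊔ Ideal.span {F 0} := by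
        rw [hIeq]
        exact sup_le_sup_right (le_col _ _) _
      obtain ⟨q, hqm, hqle, hqdim⟩ := exists_prime_of_dim hle' hdim hcon
      exact hq q hqm hqdim (le_sup_left.trans hqle)
    have hh1 : (col (J F y) (F 0) ⊔ Ideal.span {F 0}).IsHomogeneous
        (homogeneousSubmodule (Fin (n + 1)) k) := by
      have := isHomogeneous_sup (hcolh 1) (hF' 0)
      rwa [hcolone] at this
    have h2 : hilb (col (J F y) (F 0) ⊔ Ideal.span {F 0}) = 0 := by
      by_contra hne
      have h3 := (dim_eq_iff hh1 _).mpr ⟨hne, rfl⟩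
      rw [h3] at h1
      have h4 : ((((hilb (col (J F y) (F 0) ⊔ Ideal.span {F 0})).natDegree + 1 : ℕ) : WithBot ℕ∞))
        ≤ ((0 : ℕ) : WithBot ℕ∞) := h1
      have h5 := Nat.cast_le.mp h4
      omega
    obtain ⟨m₅, hm₅⟩ := isHilb_hilb hh1
    have h3 : ∀ m, m₅ ≤ m → hF (col (J F y) (F 0) ⊔ Ideal.span {F 0}) m = 0 := by
      intro m hm
      have := hm₅ m hm
      rw [h2, Polynomial.eval_zero] at this
      exact_mod_cast this.symm
    have h4 : ∀ j m, m₅ ≤ m →
        hF (col (J F y) (F 0 ^ (j + 1)) ⊔ Ideal.span {F 0}) m = 0 := by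
      intro j m hm
      apply Nat.le_zero.mp
      refine le_trans ?_ (h3 m hm).le
      refine hF_anti (sup_le_sup_right ?_ _) m
      rw [← hcolone]
      exact col_pow_mono (J F y) (F 0) (Nat.le_add_left _ _)
    have h5 : ∀ j m, m₅ ≤ m → hF (col (J F y) (F 0)) (m + d * j) =
        hF (col (J F y) (F 0 ^ (j + 1))) m := by
      intro j
      induction j with
      | zero => intro m _; rw [mul_zero, add_zero, zero_add, hcolone]
      | succ j ih =>
        intro m hm
        have h6 := hF_colon (hcolh (j + 1)) (hF' 0) m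
        rw [col_pow_succ, h4 j _ (by omega), add_zero] at h6
        rw [h6, ← ih (d + m) (by omega)]
        congr 1
        ring
    have h6 := h5 N₀ (m₁ + m₄ + m₅) (by omega)
    rw [hm₄ _ (by omega), le_antisymm (hΓle (N₀ + 1))
      (col_pow_mono (J F y) (F 0) (Nat.le_succ _)), hcntΓ _ (by omega)] at h6
    exact h6.symm

end K78.FU
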