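import Mathlib

/-! Field-theoretic part of the degree bound: a monomial basis of `k(X)` over `k(F)` and
common denominators. -/

set_option autoImplicit false

open MvPolynomial

namespace K78.FU

section field

variable {k : Type*} [Field k] {n : ℕ} (F : Fin n → MvPolynomial (Fin n) k)
  (L : Type*) [Field L] [Algebra (MvPolynomial (Fin n) k) L]
  [IsFractionRing (MvPolynomial (Fin n) k) L] [Algebra k L]
  [IsScalarTower k (MvPolynomial (Fin n) k) L]

theorem isAlgebraic_adjoin (hind : AlgebraicIndependent k F) :
    Algebra.IsAlgebraic (IntermediateField.adjoin k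
      (Set.range fun i => algebraMap (MvPolynomial (Fin n) k) L (F i))) L := by
  have h1 : IsTranscendenceBasis k F := hind.isTranscendenceBasis_of_lift_trdeg_le_of_finite
    (by simp)
  have : Algebra.IsAlgebraic (MvPolynomial (Fin n) k) L :=
    IsLocalization.isAlgebraic _ (nonZeroDivisors (MvPolynomial (Fin n) k))
  have : FaithfulSMul (MvPolynomial (Fin n) k) L :=
    (faithfulSMul_iff_algebraMap_injective _ _).mpr (IsFractionRing.injective _ L)
  have h2 := h1.algebraMap_comp (A := L)
  exact h2.isAlgebraic_field

theorem adjoin_eq_top (hind : AlgebraicIndependent k F) :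
    Algebra.adjoin (IntermediateField.adjoin k
      (Set.range fun i => algebraMap (MvPolynomial (Fin n) k) L (F i)))
      (Set.range fun j => algebraMap (MvPolynomial (Fin n) k) L (X j)) = ⊤ := by
  have := isAlgebraic_adjoin F L hind
  set K := IntermediateField.adjoin k
      (Set.range fun i => algebraMap (MvPolynomial (Fin n) k) L (F i)) with hK
  set S := Algebra.adjoin K
      (Set.range fun j => algebraMap (MvPolynomial (Fin n) k) L (X j)) with hS
  have h1 : ∀ x : MvPolynomial (Fin n) k, algebraMap (MvPolynomial (Fin n) k) L x ∈ S := by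
    intro x
    induction x using MvPolynomial.induction_on with
    | C a =>
      have : algebraMap (MvPolynomial (Fin n) k) L (C a) =
          algebraMap K L (algebraMap k K a) := by
        rw [← IsScalarTower.algebraMap_apply, ← MvPolynomial.algebraMap_eq,
          ← IsScalarTower.algebraMap_apply]
      rw [this]
      exact S.algebraMap_mem _
    | add p q hp hq => rw [map_add]; exact S.add_mem hp hq
    | mul_X p j hp =>
      rw [map_mul]
      exact S.mul_mem hp (Algebra.subset_adjoin ⟨j, rfl⟩)
  rw [eq_top_iff]
  intro l _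
  obtain ⟨a, b, hb, rfl⟩ := IsFractionRing.div_surjective (A := MvPolynomial (Fin n) k) l
  rw [div_eq_mul_inv]
  refine S.mul_mem (h1 a) ?_
  exact S.inv_mem_of_algebraic (x := ⟨_, h1 b⟩) (Algebra.IsAlgebraic.isAlgebraic _)

theorem finite_adjoin (hind : AlgebraicIndependent k F) :
    Module.Finite (IntermediateField.adjoin k
      (Set.range fun i => algebraMap (MvPolynomial (Fin n) k) L (F i))) L := by
  have := isAlgebraic_adjoin F L hind
  have : Algebra.FiniteType (IntermediateField.adjoin k
      (Set.range fun i => algebraMap (MvPolynomial (Fin n) k) L (F i))) L := by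
    refine ⟨?_⟩
    rw [← adjoin_eq_top F L hind]
    exact Subalgebra.fg_def.mpr ⟨_, Set.finite_range _, rfl⟩
  exact Algebra.IsIntegral.finite

theorem span_eq_top (hind : AlgebraicIndependent k F) :
    Submodule.span (IntermediateField.adjoin k
      (Set.range fun i => algebraMap (MvPolynomial (Fin n) k) L (F i)))
      (Set.range fun s : Fin n →₀ ℕ => algebraMap (MvPolynomial (Fin n) k) L (monomial s 1)) =
        ⊤ := by
  have h0 := adjoin_eq_top F L hind
  rw [Algebra.adjoin_range_eq_range_aeval] at h0
  rw [eq_top_iff]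
  intro l _
  have hl : l ∈ (⊤ : Subalgebra (IntermediateField.adjoin k
      (Set.range fun i => algebraMap (MvPolynomial (Fin n) k) L (F i))) L) := trivial
  rw [← h0] at hl
  obtain ⟨p, rfl⟩ := hl
  change (aeval fun j => algebraMap (MvPolynomial (Fin n) k) L (X j)) p ∈ _
  rw [p.as_sum, map_sum]
  refine Submodule.sum_mem _ fun s _ => ?_
  rw [aeval_monomial, ← Algebra.smul_def]
  refine Submodule.smul_mem _ _ (Submodule.subset_span ⟨s, ?_⟩)
  change algebraMap (MvPolynomial (Fin n) k) L (monomial s 1) = _
  rw [monomial_eq, map_mul, map_one, map_one, one_mul, Finsupp.prod, Finsupp.prod, map_prod]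
  exact Finset.prod_congr rfl fun i _ => by rw [map_pow]

theorem exists_basis (hind : AlgebraicIndependent k F) :
    ∃ e : Fin (Module.finrank (IntermediateField.adjoin k
      (Set.range fun i => algebraMap (MvPolynomial (Fin n) k) L (F i))) L) → (Fin n →₀ ℕ),
      (∀ p : Fin (Module.finrank (IntermediateField.adjoin k
          (Set.range fun i => algebraMap (MvPolynomial (Fin n) k) L (F i))) L) →
            MvPolynomial (Fin n) k,
        ∑ l, aeval F (p l) * monomial (e l) 1 = 0 → ∀ l, p l = 0) ∧
      (∃ g : MvPolynomial (Fin n) k, g ≠ 0 ∧ ∀ x : MvPolynomial (Fin n) k,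
        ∃ (M : ℕ) (p : Fin (Module.finrank (IntermediateField.adjoin k
          (Set.range fun i => algebraMap (MvPolynomial (Fin n) k) L (F i))) L) →
            MvPolynomial (Fin n) k),
          aeval F (g ^ M) * x = ∑ l, aeval F (p l) * monomial (e l) 1) := by
  classical
  have := finite_adjoin F L hind
  set K := IntermediateField.adjoin k
      (Set.range fun i => algebraMap (MvPolynomial (Fin n) k) L (F i)) with hK
  have hinjL := IsFractionRing.injective (MvPolynomial (Fin n) k) L
  obtain ⟨κ, a, ha, hsp, hli⟩ := exists_linearIndependent' K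
    (fun s : Fin n →₀ ℕ => algebraMap (MvPolynomial (Fin n) k) L (monomial s 1))
  rw [span_eq_top F L hind] at hsp
  let b : Module.Basis κ K L := Module.Basis.mk hli hsp.ge
  have : Fintype κ := FiniteDimensional.fintypeBasisIndex b
  have hcard : Fintype.card κ = Module.finrank K L := (Module.finrank_eq_card_basis b).symm
  let eq : κ ≃ Fin (Module.finrank K L) := Fintype.equivFinOfCardEq hcard
  let b' := b.reindex eq
  let e : Fin (Module.finrank K L) → (Fin n →₀ ℕ) := fun l => a (eq.symm l)
  have hb' : ∀ l, b' l = algebraMap (MvPolynomial (Fin n) k) L (monomial (e l) 1) := by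
    intro l
    simp [b', b, e]
  -- elements of K coming from polynomials
  have hval : ∀ p : MvPolynomial (Fin n) k,
      algebraMap (MvPolynomial (Fin n) k) L (aeval F p) =
        aeval (fun i => algebraMap (MvPolynomial (Fin n) k) L (F i)) p := by
    intro p
    rw [← MvPolynomial.aeval_algebraMap_apply]
    rfl
  have hmem : ∀ p : MvPolynomial (Fin n) k,
      algebraMap (MvPolynomial (Fin n) k) L (aeval F p) ∈ K := by
    intro p
    rw [hK, IntermediateField.mem_adjoin_range_iff]
    exact ⟨p, 1, by rw [hval, map_one, div_one]⟩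
  have hinj : Function.Injective (aeval F : MvPolynomial (Fin n) k →ₐ[k] _) := hind
  refine ⟨e, ?_, ?_⟩
  · intro p hp l
    have h1 : ∑ l, (⟨_, hmem (p l)⟩ : K) • b' l = 0 := by
      have h2 := congrArg (algebraMap (MvPolynomial (Fin n) k) L) hp
      rw [map_sum, map_zero] at h2
      rw [← h2]
      refine Finset.sum_congr rfl fun l _ => ?_
      rw [hb', map_mul, Algebra.smul_def]
      rfl
    have h3 := Fintype.linearIndependent_iff.mp b'.linearIndependent _ h1 l
    have h4 : algebraMap (MvPolynomial (Fin n) k) L (aeval F (p l)) = 0 :=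
      congrArg Subtype.val h3
    rw [map_eq_zero_iff _ hinjL] at h4
    exact hinj (by rw [h4, map_zero])
  · -- denominators of a single element
    have hden : ∀ x : MvPolynomial (Fin n) k, ∃ g : MvPolynomial (Fin n) k, g ≠ 0 ∧
        ∃ p : Fin (Module.finrank K L) → MvPolynomial (Fin n) k,
          aeval F g * x = ∑ l, aeval F (p l) * monomial (e l) 1 := by
      intro x
      have h1 : ∀ l, ∃ r s : MvPolynomial (Fin n) k, s ≠ 0 ∧
          ((b'.repr (algebraMap _ L x) l : K) : L) * algebraMap _ L (aeval F s) =
            algebraMap _ L (aeval F r) := by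
        intro l
        obtain ⟨r, s, hrs⟩ := (IntermediateField.mem_adjoin_range_iff k _ _).mp
          (b'.repr (algebraMap _ L x) l).2
        by_cases hs : s = 0
        · refine ⟨0, 1, one_ne_zero, ?_⟩
          rw [hrs, hs]
          simp
        · refine ⟨r, s, hs, ?_⟩
          have h5 : algebraMap (MvPolynomial (Fin n) k) L (aeval F s) ≠ 0 := by
            rw [Ne, map_eq_zero_iff _ hinjL]
            intro h6
            exact hs (hinj (by rw [h6, map_zero]))
          rw [hrs, ← hval, ← hval, div_mul_cancel₀ _ h5]
      choose r s hs hrs using h1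
      refine ⟨∏ l, s l, Finset.prod_ne_zero_iff.mpr fun l _ => hs l,
        fun l => r l * ∏ l' ∈ Finset.univ.erase l, s l', ?_⟩
      apply hinjL
      rw [map_mul, map_sum]
      conv_lhs => rw [← b'.sum_repr (algebraMap _ L x)]
      rw [Finset.mul_sum]
      refine Finset.sum_congr rfl fun l _ => ?_
      have h6 : aeval F (∏ l, s l) = aeval F (s l) * aeval F (∏ l' ∈ Finset.univ.erase l, s l') := by
        rw [← map_mul, Finset.mul_prod_erase _ _ (Finset.mem_univ l)]
      rw [Algebra.smul_def, hb', map_mul, map_mul, map_mul, ← hrs l, h6, map_mul]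
      change _ * (((b'.repr (algebraMap _ L x) l : K) : L) * _) = _
      ring
    -- the common denominator
    choose den hden0 hden using hden
    let g : MvPolynomial (Fin n) k := den 1 * ∏ j, ∏ l, den (monomial (e l) 1 * X j)
    have hg0 : g ≠ 0 := mul_ne_zero (hden0 _) (Finset.prod_ne_zero_iff.mpr fun j _ =>
      Finset.prod_ne_zero_iff.mpr fun l _ => hden0 _)
    have hdvd1 : den 1 ∣ g := Dvd.intro _ rfl
    have hdvd2 : ∀ j l, den (monomial (e l) 1 * X j) ∣ g := fun j l =>
      ((Finset.dvd_prod_of_mem _ (Finset.mem_univ l)).trans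
        (Finset.dvd_prod_of_mem (fun j => ∏ l, den (monomial (e l) 1 * X j))
          (Finset.mem_univ j))).trans (Dvd.intro_left _ rfl)
    have hdvd : ∀ x, den x ∣ g → ∃ p : Fin (Module.finrank K L) → MvPolynomial (Fin n) k,
        aeval F g * x = ∑ l, aeval F (p l) * monomial (e l) 1 := by
      rintro x ⟨c, hc⟩
      obtain ⟨p, hp⟩ := hden x
      refine ⟨fun l => c * p l, ?_⟩
      rw [hc, mul_comm (den x) c, map_mul, mul_assoc, hp, Finset.mul_sum]
      exact Finset.sum_congr rfl fun l _ => by rw [map_mul, mul_assoc]
    obtain ⟨p1, hp1⟩ := hdvd 1 hdvd1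
    choose p2 hp2 using fun j l => hdvd _ (hdvd2 j l)
    refine ⟨g, hg0, fun x => ?_⟩
    induction x using MvPolynomial.induction_on with
    | C a =>
      refine ⟨1, fun l => C a * p1 l, ?_⟩
      have h7 : aeval F (g ^ 1) * C a = C a * (aeval F g * 1) := by rw [pow_one]; ring
      rw [h7, hp1, Finset.mul_sum]
      refine Finset.sum_congr rfl fun l _ => ?_
      rw [map_mul, aeval_C, MvPolynomial.algebraMap_eq, mul_assoc]
    | add x y hx hy =>
      obtain ⟨M, p, hp⟩ := hx
      obtain ⟨M', p', hp'⟩ := hy
      refine ⟨M + M', fun l => g ^ M' * p l + g ^ M * p' l, ?_⟩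
      have h7 : aeval F (g ^ (M + M')) * (x + y) =
          aeval F (g ^ M') * (aeval F (g ^ M) * x) + aeval F (g ^ M) * (aeval F (g ^ M') * y) := by
        rw [pow_add, map_mul]; ring
      rw [h7, hp, hp', Finset.mul_sum, Finset.mul_sum, ← Finset.sum_add_distrib]
      exact Finset.sum_congr rfl fun l _ => by rw [map_add, map_mul, map_mul]; ring
    | mul_X x j hx =>
      obtain ⟨M, p, hp⟩ := hx
      refine ⟨M + 1, fun l' => ∑ l, p l * p2 j l l', ?_⟩
      have h7 : aeval F (g ^ (M + 1)) * (x * X j) =
          (aeval F (g ^ M) * x) * (aeval F g * X j) := by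
        rw [pow_add, pow_one, map_mul]; ring
      rw [h7, hp, Finset.sum_mul]
      have h8 : ∀ l, aeval F (p l) * monomial (e l) 1 * (aeval F g * X j) =
          ∑ l', aeval F (p l * p2 j l l') * monomial (e l') 1 := by
        intro l
        have h9 : aeval F (p l) * monomial (e l) 1 * (aeval F g * X j) =
            aeval F (p l) * (aeval F g * (monomial (e l) 1 * X j)) := by ring
        rw [h9, hp2, Finset.mul_sum]
        exact Finset.sum_congr rfl fun l' _ => by rw [map_mul, mul_assoc]
      rw [Finset.sum_congr rfl fun l _ => h8 l, Finset.sum_comm]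
      refine Finset.sum_congr rfl fun l' _ => ?_
      rw [map_sum, Finset.sum_mul]

end field

end K78.FU
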