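import Mathlib
import Groth.Agent.Localalg.ExtLift
import Groth.Agent.Models.CMSeq
import Groth.Agent.S0342
import Groth.Agent.S2166
import Groth.Agent.Lefpen.H718.Reg
import Groth.Agent.Ega4dB.CITransport
import Groth.Agent.LoccohA.GorBC

/-! Local algebra: ideals of dimension zero in a regular local ring. -/

set_option autoImplicit false

open IsLocalRing RingTheory.Sequence

namespace K78.FU

universe u

section reg

variable {A : Type u} [CommRing A] [IsRegularLocalRing A] {h : ℕ} (hA : ringKrullDim A = h)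
  {I : Ideal A} (hI : I ≠ ⊤) (h0 : ringKrullDim (A ⧸ I) ≤ 0)

include hA hI h0 in
theorem isRegular_of_span (f : Fin h → A) (hf : Ideal.span (Set.range f) = I) :
    IsRegular A (List.ofFn f) := by
  have hmem : ∀ x ∈ List.ofFn f, x ∈ maximalIdeal A := by
    intro x hx
    obtain ⟨i, rfl⟩ := List.mem_ofFn.1 hx
    refine le_maximalIdeal hI ?_
    rw [← hf]
    exact Ideal.subset_span ⟨i, rfl⟩
  refine Groth.Agent.Models.CMSeq.isRegular_of_ringKrullDim_le (List.ofFn f) hmem ?_
  rw [← Groth.Agent.Localalg.ExtLift.span_range_eq_ofList, hA, List.length_ofFn, hf]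
  calc ringKrullDim (A ⧸ I) + (h : WithBot ℕ∞) ≤ 0 + h := by gcongr
    _ = h := zero_add _

include hA hI h0 in
theorem ci_iff [IsLocalRing (A ⧸ I)] : Pi1.IsCompleteIntersection (A ⧸ I) ↔
    ∃ f : Fin h → A, Ideal.span (Set.range f) = I := by
  rw [Groth.Agent.S2166.result I hI]
  constructor
  · rintro ⟨rs, rfl, hreg⟩
    have h1 := ringKrullDim_add_length_eq_ringKrullDim_of_isRegular rs hreg
    have h2 : ringKrullDim (A ⧸ Ideal.ofList rs) = 0 :=
      le_antisymm h0 ringKrullDim_nonneg_of_nontrivial
    rw [h2, zero_add, hA] at h1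
    have h3 : rs.length = h := by exact_mod_cast h1
    subst h3
    refine ⟨rs.get, ?_⟩
    rw [Groth.Agent.Localalg.ExtLift.span_range_eq_ofList, List.ofFn_get]
  · rintro ⟨f, hf⟩
    refine ⟨List.ofFn f, ?_, isRegular_of_span hA hI h0 f hf⟩
    rw [← Groth.Agent.Localalg.ExtLift.span_range_eq_ofList, hf]

include hA hI h0 in
theorem gor_of_span (f : Fin h → A) (hf : Ideal.span (Set.range f) = I) :
    LocCoh.IsGorensteinLocalRing (A ⧸ I) := by
  have hgor : LocCoh.IsGorensteinLocalRing A := Groth.Agent.S0342.result A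
  have h1 := (Groth.Agent.Localalg.ExtLift.gorenstein_quotient f
    (isRegular_of_span hA hI h0 f hf).toIsWeaklyRegular fun i => le_maximalIdeal hI (by
      rw [← hf]; exact Ideal.subset_span ⟨i, rfl⟩)).1
  subst hf
  exact h1

end reg

section lin

variable {k : Type*} [Field k] {A : Type*} [CommRing A] [IsLocalRing A] [IsNoetherianRing A]
  [Algebra k A] {n : ℕ}

/-- If `n + 1` elements generate an ideal which needs only `n` generators, then all but a proper
linear subspace of the `n`-dimensional spaces of combinations generate. -/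
theorem exists_form (F : Fin (n + 1) → A) (f : Fin n → A)
    (hf : Ideal.span (Set.range f) = Ideal.span (Set.range F)) :
    ∃ lam : Fin (n + 1) → k, lam ≠ 0 ∧ ∀ y : Fin (n + 1) → k, y 0 ≠ 0 → ∑ i, lam i * y i ≠ 0 →
      F 0 ∈ Ideal.span (Set.range fun i : Fin n =>
        algebraMap k A (y 0) * F i.succ - algebraMap k A (y i.succ) * F 0) := by
  classical
  have h1 : ∀ i, ∃ M : Fin n → A, ∑ j, M j * f j = F i := fun i =>
    Ideal.mem_span_range_iff_exists_fun.mp (by rw [hf]; exact Ideal.subset_span ⟨i, rfl⟩)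
  choose M hM using h1
  let T : (Fin (n + 1) → ResidueField A) →ₗ[ResidueField A] (Fin n → ResidueField A) :=
    LinearMap.pi fun j => ∑ i, (residue A (M i j)) • LinearMap.proj i
  have hT : LinearMap.ker T ≠ ⊥ := LinearMap.ker_ne_bot_of_finrank_lt (by simp)
  obtain ⟨c, hc, hc0⟩ := (Submodule.ne_bot_iff _).mp hT
  obtain ⟨i₀, hi₀⟩ : ∃ i, c i ≠ 0 := by
    by_contra hcon
    push Not at hcon
    exact hc0 (funext hcon)
  obtain ⟨φ, hφ⟩ : ∃ φ : Module.Dual k (ResidueField A), φ (c i₀) ≠ 0 := by
    by_contra hcon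
    push Not at hcon
    exact hi₀ ((Module.forall_dual_apply_eq_zero_iff k _).mp hcon)
  choose C hC using fun i => residue_surjective (R := A) (c i)
  refine ⟨fun i => φ (c i), fun h => hφ (congrFun h i₀), fun y hy hly => ?_⟩
  -- `∑ C_i y_i` is a unit
  have hu : IsUnit (∑ i, C i * algebraMap k A (y i)) := by
    by_contra hcon
    apply hly
    have h2 : residue A (∑ i, C i * algebraMap k A (y i)) = 0 := by
      rw [residue_eq_zero_iff, mem_maximalIdeal]
      exact hcon
    rw [map_sum] at h2
    have h3 : ∑ i, y i • c i = 0 := by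
      rw [← h2]
      refine Finset.sum_congr rfl fun i _ => ?_
      rw [map_mul, hC, Algebra.smul_def, mul_comm]
      rfl
    have h4 := congrArg φ h3
    rw [map_sum, map_zero] at h4
    rw [← h4]
    refine Finset.sum_congr rfl fun i _ => ?_
    rw [map_smul, smul_eq_mul, mul_comm]
  set J := Ideal.span (Set.range fun i : Fin n =>
        algebraMap k A (y 0) * F i.succ - algebraMap k A (y i.succ) * F 0) with hJ
  set I := Ideal.span (Set.range F) with hI
  -- the relation
  have hrel : ∑ i, C i * F i ∈ maximalIdeal A • I := by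
    have h2 : ∑ i, C i * F i = ∑ j, (∑ i, C i * M i j) * f j := by
      simp only [← hM, Finset.mul_sum, Finset.sum_mul, ← mul_assoc]
      rw [Finset.sum_comm]
    rw [h2]
    refine Ideal.sum_mem _ fun j _ => ?_
    refine Submodule.smul_mem_smul (M := A) ?_ ?_
    · rw [← residue_eq_zero_iff, map_sum]
      have h3 := congrFun hc j
      simp only [T, LinearMap.pi_apply, LinearMap.sum_apply, LinearMap.smul_apply,
        LinearMap.proj_apply, Pi.zero_apply, smul_eq_mul] at h3
      rw [← h3]
      exact Finset.sum_congr rfl fun i _ => by rw [map_mul, hC, mul_comm]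
    · rw [← hf]; exact Ideal.subset_span ⟨j, rfl⟩
  have hF0 : F 0 ∈ J ⊔ maximalIdeal A • I := by
    have h2 : (∑ i, C i * algebraMap k A (y i)) * F 0 =
        algebraMap k A (y 0) * (∑ i, C i * F i) - ∑ i : Fin n, C i.succ *
          (algebraMap k A (y 0) * F i.succ - algebraMap k A (y i.succ) * F 0) := by
      rw [Fin.sum_univ_succ, Fin.sum_univ_succ (f := fun i => C i * F i)]
      simp only [mul_sub, Finset.sum_sub_distrib, add_mul, mul_add, Finset.sum_mul,
        Finset.mul_sum]
      have h3 : ∀ i : Fin n, C i.succ * (algebraMap k A (y 0) * F i.succ) =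
        algebraMap k A (y 0) * (C i.succ * F i.succ) := fun i => by ring
      have h4 : ∀ i : Fin n, C i.succ * (algebraMap k A (y i.succ) * F 0) =
        C i.succ * algebraMap k A (y i.succ) * F 0 := fun i => by ring
      simp only [h3, h4]
      ring
    rw [← Ideal.unit_mul_mem_iff_mem _ hu, h2]
    refine Ideal.sub_mem _ (Ideal.mul_mem_left _ _ (Submodule.mem_sup_right hrel))
      (Ideal.sum_mem _ fun i _ => Ideal.mul_mem_left _ _
        (Submodule.mem_sup_left (Ideal.subset_span ⟨i, rfl⟩)))
  have hIle : I ≤ J ⊔ maximalIdeal A • I := by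
    rw [hI, Ideal.span_le]
    rintro _ ⟨i, rfl⟩
    induction i using Fin.cases with
    | zero => exact hF0
    | succ i =>
      have h3 : algebraMap k A (y 0)⁻¹ * algebraMap k A (y 0) = 1 := by
        rw [← map_mul, inv_mul_cancel₀ hy, map_one]
      have h2 : F i.succ = algebraMap k A (y 0)⁻¹ *
          ((algebraMap k A (y 0) * F i.succ - algebraMap k A (y i.succ) * F 0) +
            algebraMap k A (y i.succ) * F 0) := by
        rw [sub_add_cancel, ← mul_assoc, h3, one_mul]
      rw [SetLike.mem_coe, h2]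
      exact Ideal.mul_mem_left _ _ (Ideal.add_mem _
        (Submodule.mem_sup_left (Ideal.subset_span ⟨i, rfl⟩)) (Ideal.mul_mem_left _ _ hF0))
  have hle : I ≤ J := Submodule.le_of_le_smul_of_le_jacobson_bot (IsNoetherian.noetherian _)
    (IsLocalRing.jacobson_eq_maximalIdeal _ bot_ne_top).ge hIle
  exact hle (Ideal.subset_span ⟨0, rfl⟩)

end lin

end K78.FU
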