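import Mathlib
import Groth.Agent.W4c1frobunstiva.K78.Field
import Groth.Agent.W4c1frobunstiva.K78.Deg
import Groth.Agent.W4c1frobunstiva.K78.Loc

/-! Assembly of the degree bound. -/

set_option autoImplicit false

open MvPolynomial K657.HilbFun K657.HilbDim K657.HilbMult IsLocalRing

namespace K78.FU

universe u

attribute [local instance] MvPolynomial.gradedAlgebra

variable {k : Type u} [Field k] {n : ℕ}

/-- `I_p` is generated by `n` elements. -/
def Gen (F : Fin (n + 1) → MvPolynomial (Fin (n + 1)) k)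
    (p : Ideal (MvPolynomial (Fin (n + 1)) k)) [p.IsPrime] : Prop :=
  ∃ f : Fin n → Localization.AtPrime p, Ideal.span (Set.range f) =
    (Ideal.span (Set.range F)).map (algebraMap _ (Localization.AtPrime p))

/-- Kunz's theorem on almost complete intersections (as consumed here). -/
def KunzHyp : Prop :=
  ∀ (A : Type u) [CommRing A] [IsRegularLocalRing A] [Infinite (ResidueField A)] (n : ℕ)
    (_ : ringKrullDim A = n) (x : Fin (n + 1) → A) (_ : ∀ i, x i ∈ maximalIdeal A)
    (_ : ringKrullDim (A ⧸ Ideal.span (Set.range x)) = 0)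
    (_ : LocCoh.IsGorensteinLocalRing (A ⧸ Ideal.span (Set.range x))),
    ∃ y : Fin n → A, Ideal.span (Set.range y) = Ideal.span (Set.range x)

theorem map_span_range (F : Fin (n + 1) → MvPolynomial (Fin (n + 1)) k)
    (A : Type*) [CommRing A] [Algebra (MvPolynomial (Fin (n + 1)) k) A] :
    (Ideal.span (Set.range F)).map (algebraMap _ A) =
      Ideal.span (Set.range fun i => algebraMap _ A (F i)) := by
  rw [Ideal.map_span, ← Set.range_comp]
  rfl

theorem dim_cases {F : Fin (n + 1) → MvPolynomial (Fin (n + 1)) k}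
    (hdim : ringKrullDim (MvPolynomial (Fin (n + 1)) k ⧸ Ideal.span (Set.range F)) ≤ 1)
    {p : Ideal (MvPolynomial (Fin (n + 1)) k)} [hp : p.IsPrime]
    (hpI : Ideal.span (Set.range F) ≤ p) :
    (ringKrullDim (MvPolynomial (Fin (n + 1)) k ⧸ p) = 1 ∧
      ringKrullDim (Localization.AtPrime p) = n) ∨
    (ringKrullDim (MvPolynomial (Fin (n + 1)) k ⧸ p) ≠ 1 ∧
      ringKrullDim (Localization.AtPrime p) = (n + 1 : ℕ)) := by
  have h1 := Groth.Agent.CalgC.DimFT.height_add_ringKrullDim_quotient k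
    (MvPolynomial (Fin (n + 1)) k) p
  rw [Groth.Agent.CalgC.DimFT.ringKrullDim_mvPolynomial_fin] at h1
  rw [IsLocalization.AtPrime.ringKrullDim_eq_height p (Localization.AtPrime p)]
  have h2 : ringKrullDim (MvPolynomial (Fin (n + 1)) k ⧸ p) ≤ 1 :=
    (ringKrullDim_quotient_anti hpI).trans hdim
  have h3 : 0 ≤ ringKrullDim (MvPolynomial (Fin (n + 1)) k ⧸ p) :=
    ringKrullDim_nonneg_of_nontrivial
  obtain ⟨t, ht⟩ : ∃ t : ℕ∞, (t : WithBot ℕ∞) =
      ringKrullDim (MvPolynomial (Fin (n + 1)) k ⧸ p) :=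
    WithBot.ne_bot_iff_exists.mp fun h => by
      rw [h, le_bot_iff] at h3
      exact absurd h3 (by simp)
  rw [← ht] at h1 h2 ⊢
  have h2' : t ≤ 1 := by exact_mod_cast h2
  have h1' : p.height + t = (n + 1 : ℕ) := by exact_mod_cast h1
  rcases Order.le_one_iff.mp h2' with h | h
  · right
    subst h
    refine ⟨by decide, ?_⟩
    rw [add_zero] at h1'
    rw [h1']
    rfl
  · left
    subst h
    refine ⟨rfl, ?_⟩
    have h4 : p.height + 1 = (n : ℕ∞) + 1 := by rw [h1']; push_cast; rfl
    have h5 : p.height = n := le_antisymm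
      ((ENat.add_le_add_iff_right ENat.one_ne_top).mp h4.le)
      ((ENat.add_le_add_iff_right ENat.one_ne_top).mp h4.ge)
    rw [h5]
    rfl

theorem local_core (hK : KunzHyp.{u}) [Infinite k]
    {F : Fin (n + 1) → MvPolynomial (Fin (n + 1)) k}
    (hdim : ringKrullDim (MvPolynomial (Fin (n + 1)) k ⧸ Ideal.span (Set.range F)) ≤ 1)
    (p : Ideal (MvPolynomial (Fin (n + 1)) k)) [p.IsPrime] (hIp : Ideal.span (Set.range F) ≤ p)
    (h0 : ringKrullDim (Localization.AtPrime p ⧸ (Ideal.span (Set.range F)).map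
      (algebraMap _ (Localization.AtPrime p))) = 0)
    [IsLocalRing (Localization.AtPrime p ⧸ (Ideal.span (Set.range F)).map
      (algebraMap _ (Localization.AtPrime p)))] :
    (Pi1.IsCompleteIntersection (Localization.AtPrime p ⧸ (Ideal.span (Set.range F)).map
      (algebraMap _ (Localization.AtPrime p))) ↔
      (ringKrullDim (MvPolynomial (Fin (n + 1)) k ⧸ p) = 1 → Gen F p)) ∧
    (LocCoh.IsGorensteinLocalRing (Localization.AtPrime p ⧸ (Ideal.span (Set.range F)).map
      (algebraMap _ (Localization.AtPrime p))) ↔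
      (ringKrullDim (MvPolynomial (Fin (n + 1)) k ⧸ p) = 1 → Gen F p)) := by
  have hreg : IsRegularLocalRing (Localization.AtPrime p) :=
    IsRegularRing.isRegularLocalRing_localization p
  have hne : (Ideal.span (Set.range F)).map (algebraMap _ (Localization.AtPrime p)) ≠ ⊤ :=
    Ideal.Quotient.nontrivial_iff.mp inferInstance
  rcases dim_cases hdim hIp with ⟨h1, h2⟩ | ⟨h1, h2⟩
  · have h3 := ci_iff h2 hne h0.le
    refine ⟨by rw [h3]; exact ⟨fun h _ => h, fun h => h h1⟩, ?_⟩
    constructor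
    · intro hG _
      have hinf : Infinite (ResidueField (Localization.AtPrime p)) :=
        Infinite.of_injective (algebraMap k (ResidueField (Localization.AtPrime p)))
          (algebraMap k _).injective
      have heq := map_span_range F (Localization.AtPrime p)
      rw [heq] at h0 hG
      obtain ⟨f, hf⟩ := hK (Localization.AtPrime p) n h2 (fun i => algebraMap _ _ (F i))
        (fun i => le_maximalIdeal hne (Ideal.mem_map_of_mem _ (Ideal.subset_span ⟨i, rfl⟩))) h0 hG
      exact ⟨f, hf.trans heq.symm⟩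
    · intro h
      obtain ⟨f, hf⟩ := h h1
      exact gor_of_span h2 hne h0.le f hf
  · have h3 : ∃ f : Fin (n + 1) → Localization.AtPrime p, Ideal.span (Set.range f) =
        (Ideal.span (Set.range F)).map (algebraMap _ (Localization.AtPrime p)) :=
      ⟨fun i => algebraMap _ _ (F i), (map_span_range F _).symm⟩
    constructor
    · rw [ci_iff h2 hne h0.le]
      exact ⟨fun _ h => absurd h h1, fun _ => h3⟩
    · refine ⟨fun _ h => absurd h h1, fun _ => ?_⟩
      obtain ⟨f, hf⟩ := h3
      exact gor_of_span h2 hne h0.le f hf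

theorem local_part (hK : KunzHyp.{u}) [Infinite k]
    {F : Fin (n + 1) → MvPolynomial (Fin (n + 1)) k}
    (hdim : ringKrullDim (MvPolynomial (Fin (n + 1)) k ⧸ Ideal.span (Set.range F)) ≤ 1)
    (q : Ideal (MvPolynomial (Fin (n + 1)) k ⧸ Ideal.span (Set.range F)))
    [hq : q.IsPrime] (hqm : q ∈ minimalPrimes _) :
    (Pi1.IsCompleteIntersection (Localization.AtPrime q) ↔
      (ringKrullDim (MvPolynomial (Fin (n + 1)) k ⧸ q.comap (Ideal.Quotient.mk _)) = 1 →
        Gen F (q.comap (Ideal.Quotient.mk _)))) ∧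
    (LocCoh.IsGorensteinLocalRing (Localization.AtPrime q) ↔
      (ringKrullDim (MvPolynomial (Fin (n + 1)) k ⧸ q.comap (Ideal.Quotient.mk _)) = 1 →
        Gen F (q.comap (Ideal.Quotient.mk _)))) := by
  obtain ⟨e⟩ := Groth.Agent.Lefpen.H718.Reg.nonempty_quotient_equiv _
    (Ideal.span (Set.range F)) q
  have hnt := e.symm.toEquiv.nontrivial
  have hloc : IsLocalRing (Localization.AtPrime (q.comap (Ideal.Quotient.mk _)) ⧸
      (Ideal.span (Set.range F)).map (algebraMap _ (Localization.AtPrime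
        (q.comap (Ideal.Quotient.mk _))))) :=
    IsLocalRing.of_surjective' (Ideal.Quotient.mk _) Ideal.Quotient.mk_surjective
  rw [Groth.Agent.Ega4dB.CITransport.isCompleteIntersection_iff_of_ringEquiv e,
    Groth.Agent.LoccohA.GorBC.isGorensteinLocalRing_iff_of_ringEquiv e]
  refine local_core hK hdim _ (fun x hx => ?_) ?_
  · rw [Ideal.mem_comap, Ideal.Quotient.eq_zero_iff_mem.mpr hx]
    exact zero_mem _
  · rw [← ringKrullDim_eq_of_ringEquiv e, IsLocalization.AtPrime.ringKrullDim_eq_height q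
      (Localization.AtPrime q), Ideal.height_eq_zero_iff.mpr hqm]
    rfl

/-- The finitely many linear conditions on `y`. -/
theorem exists_good_form (F : Fin (n + 1) → MvPolynomial (Fin (n + 1)) k)
    (p : Ideal (MvPolynomial (Fin (n + 1)) k)) [p.IsPrime] :
    ∃ ℓ : MvPolynomial (Fin (n + 1)) k, ℓ ≠ 0 ∧ ∀ y : Fin (n + 1) → k, y 0 ≠ 0 → eval y ℓ ≠ 0 →
      (Gen F p → ¬ col (J F y) (F 0) ≤ p) := by
  by_cases hG : Gen F p
  swap
  · exact ⟨1, one_ne_zero, fun _ _ _ h => absurd h hG⟩
  obtain ⟨f, hf⟩ := hG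
  rw [map_span_range] at hf
  obtain ⟨lam, hlam, h⟩ := exists_form (k := k) (fun i => algebraMap _ (Localization.AtPrime p) (F i))
    f hf
  refine ⟨∑ i, C (lam i) * X i, ?_, fun y hy hy' _ hle => ?_⟩
  · intro h0
    apply hlam
    ext i
    have h1 := congrArg (coeff (Finsupp.single i 1)) h0
    rw [coeff_sum, Finset.sum_eq_single i] at h1
    · simpa [coeff_C_mul, coeff_X] using h1
    · intro j _ hj
      rw [coeff_C_mul, coeff_X, if_neg, mul_zero]
      intro h2
      exact hj (Finsupp.single_left_injective one_ne_zero h2)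
    · intro h2
      exact absurd (Finset.mem_univ i) h2
  · have h1 : ∑ i, lam i * y i ≠ 0 := by
      simpa using hy'
    have h2 := h y hy h1
    have h3 : (Ideal.span (Set.range fun i : Fin n =>
        algebraMap k (Localization.AtPrime p) (y 0) *
          algebraMap _ (Localization.AtPrime p) (F i.succ) -
        algebraMap k (Localization.AtPrime p) (y i.succ) *
          algebraMap _ (Localization.AtPrime p) (F 0))) =
        (J F y).map (algebraMap _ (Localization.AtPrime p)) := by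
      rw [J, Ideal.map_span, ← Set.range_comp]
      congr 2
      ext i
      simp only [Function.comp_apply, fJ, map_sub, map_mul]
      rw [← MvPolynomial.algebraMap_eq, ← IsScalarTower.algebraMap_apply,
        ← IsScalarTower.algebraMap_apply]
    rw [h3, IsLocalization.mem_map_algebraMap_iff p.primeCompl] at h2
    obtain ⟨⟨x, s⟩, hxs⟩ := h2
    rw [← map_mul] at hxs
    obtain ⟨t, ht⟩ := (IsLocalization.eq_iff_exists p.primeCompl _).mp hxs
    have h4 : (t : MvPolynomial (Fin (n + 1)) k) * s ∈ col (J F y) (F 0) := by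
      rw [mem_col]
      have h5 : F 0 * ((t : MvPolynomial (Fin (n + 1)) k) * s) = t * (F 0 * s) := by ring
      rw [h5, ht]
      exact Ideal.mul_mem_left _ _ x.2
    exact (t * s).2 (hle h4)

theorem gen_of_not_le {F : Fin (n + 1) → MvPolynomial (Fin (n + 1)) k} {y : Fin (n + 1) → k}
    (hy : y 0 ≠ 0) {p : Ideal (MvPolynomial (Fin (n + 1)) k)} [p.IsPrime]
    (h : ¬ col (J F y) (F 0) ≤ p) : Gen F p := by
  obtain ⟨s, hs, hsp⟩ := SetLike.not_le_iff_exists.mp h
  refine ⟨fun i => algebraMap _ _ (fJ F y i), ?_⟩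
  have h1 : Ideal.span (Set.range fun i => algebraMap _ (Localization.AtPrime p) (fJ F y i)) =
      (J F y).map (algebraMap _ (Localization.AtPrime p)) := by
    rw [J, Ideal.map_span, ← Set.range_comp]
    rfl
  rw [h1, span_eq_sup F y hy, Ideal.map_sup, left_eq_sup, Ideal.map_span, Set.image_singleton,
    Ideal.span_singleton_le_iff_mem]
  have h2 : IsUnit (algebraMap _ (Localization.AtPrime p) s) :=
    IsLocalization.map_units _ (⟨s, hsp⟩ : p.primeCompl)
  rw [← Ideal.unit_mul_mem_iff_mem _ h2, ← map_mul, mul_comm]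
  exact Ideal.mem_map_of_mem _ hs

theorem exists_eval_ne_zero [Infinite k] {σ : Type*} [Finite σ] {p : MvPolynomial σ k}
    (hp : p ≠ 0) : ∃ y : σ → k, eval y p ≠ 0 := by
  by_contra hcon
  push Not at hcon
  exact hp (MvPolynomial.funext fun y => by rw [hcon, map_zero])

theorem main (hK : KunzHyp.{u}) [Infinite k] {d : ℕ} (hd : 1 ≤ d)
    (F : Fin (n + 1) → MvPolynomial (Fin (n + 1)) k) (hF' : ∀ i, (F i).IsHomogeneous d)
    (hind : AlgebraicIndependent k F)
    (hdim : ringKrullDim (MvPolynomial (Fin (n + 1)) k ⧸ Ideal.span (Set.range F)) ≤ 1)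
    (δ : ℕ) (hδ : ∃ m₀, ∀ m, m₀ ≤ m → hF (Ideal.span (Set.range F)) m = δ) :
    Module.finrank (IntermediateField.adjoin k
      (Set.range fun i => algebraMap (MvPolynomial (Fin (n + 1)) k)
        (FractionRing (MvPolynomial (Fin (n + 1)) k)) (F i)))
        (FractionRing (MvPolynomial (Fin (n + 1)) k)) + d * δ ≤ d ^ (n + 1) ∧
    (Module.finrank (IntermediateField.adjoin k
      (Set.range fun i => algebraMap (MvPolynomial (Fin (n + 1)) k)
        (FractionRing (MvPolynomial (Fin (n + 1)) k)) (F i)))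
        (FractionRing (MvPolynomial (Fin (n + 1)) k)) + d * δ = d ^ (n + 1) ↔
      ∀ q : Ideal (MvPolynomial (Fin (n + 1)) k ⧸ Ideal.span (Set.range F)),
        ∀ hq : q ∈ minimalPrimes _, letI : q.IsPrime := hq.1.1
        Pi1.IsCompleteIntersection (Localization.AtPrime q)) ∧
    ((∀ q : Ideal (MvPolynomial (Fin (n + 1)) k ⧸ Ideal.span (Set.range F)),
        ∀ hq : q ∈ minimalPrimes _, letI : q.IsPrime := hq.1.1
        Pi1.IsCompleteIntersection (Localization.AtPrime q)) ↔
      ∀ q : Ideal (MvPolynomial (Fin (n + 1)) k ⧸ Ideal.span (Set.range F)),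
        ∀ hq : q ∈ minimalPrimes _, letI : q.IsPrime := hq.1.1
        LocCoh.IsGorensteinLocalRing (Localization.AtPrime q)) := by
  classical
  obtain ⟨e, hli, g, hg0, hg⟩ := exists_basis F
    (FractionRing (MvPolynomial (Fin (n + 1)) k)) hind
  -- the linear forms
  have hℓ : ∀ p : Ideal (MvPolynomial (Fin (n + 1)) k),
      ∃ ℓ : MvPolynomial (Fin (n + 1)) k, ℓ ≠ 0 ∧ ∀ y : Fin (n + 1) → k, y 0 ≠ 0 →
        eval y ℓ ≠ 0 → ∀ (_ : p.IsPrime), (Gen F p → ¬ col (J F y) (F 0) ≤ p) := by
    intro p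
    by_cases hp : p.IsPrime
    · obtain ⟨ℓ, h1, h2⟩ := exists_good_form F p
      exact ⟨ℓ, h1, fun y hy hy' _ => h2 y hy hy'⟩
    · exact ⟨1, one_ne_zero, fun _ _ _ h => absurd h hp⟩
  choose ℓ hℓ0 hℓ using hℓ
  have hfin : (Ideal.span (Set.range F)).minimalPrimes.Finite :=
    Ideal.finite_minimalPrimes_of_isNoetherianRing _ _
  obtain ⟨y, hy⟩ := exists_eval_ne_zero (k := k) (p := X 0 * g * ∏ p ∈ hfin.toFinset, ℓ p)
    (mul_ne_zero (mul_ne_zero (X_ne_zero _) hg0) (Finset.prod_ne_zero_iff.mpr fun p _ => hℓ0 p))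
  rw [map_mul, map_mul, eval_X, map_prod] at hy
  have hy0 : y 0 ≠ 0 := left_ne_zero_of_mul (left_ne_zero_of_mul hy)
  have hgy : eval y g ≠ 0 := right_ne_zero_of_mul (left_ne_zero_of_mul hy)
  have hℓy : ∀ p ∈ (Ideal.span (Set.range F)).minimalPrimes, eval y (ℓ p) ≠ 0 := fun p hp =>
    Finset.prod_ne_zero_iff.mp (right_ne_zero_of_mul hy) p (hfin.mem_toFinset.mpr hp)
  obtain ⟨h1, h2⟩ := numeric hd F hF' y hy0 hli hg hgy hdim δ hδ
  -- transport of the minimal primes
  have hmin : ∀ (P : Ideal (MvPolynomial (Fin (n + 1)) k) → Prop),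
      (∀ p ∈ (Ideal.span (Set.range F)).minimalPrimes, P p) ↔
      ∀ q : Ideal (MvPolynomial (Fin (n + 1)) k ⧸ Ideal.span (Set.range F)),
        q ∈ minimalPrimes _ → P (q.comap (Ideal.Quotient.mk _)) := by
    intro P
    rw [Ideal.minimalPrimes_eq_comap]
    constructor
    · intro h q hq
      exact h _ ⟨q, hq, rfl⟩
    · rintro h _ ⟨q, hq, rfl⟩
      exact h q hq
  refine ⟨h1, ?_, ?_⟩
  · rw [h2]
    have h3 := hmin fun p => ringKrullDim (MvPolynomial (Fin (n + 1)) k ⧸ p) = 1 →
      ¬ col (J F y) (F 0) ≤ p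
    refine h3.trans (forall_congr' fun q => forall_congr' fun hq => ?_)
    have hqp : q.IsPrime := hq.1.1
    rw [(local_part hK hdim q hq).1]
    have hpm : q.comap (Ideal.Quotient.mk _) ∈ (Ideal.span (Set.range F)).minimalPrimes := by
      rw [Ideal.minimalPrimes_eq_comap]
      exact ⟨q, hq, rfl⟩
    refine forall_congr' fun _ => ?_
    exact ⟨fun h => gen_of_not_le hy0 h, fun h => hℓ _ y hy0 (hℓy _ hpm) inferInstance h⟩
  · refine forall_congr' fun q => forall_congr' fun hq => ?_
    have hqp : q.IsPrime := hq.1.1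
    exact (local_part hK hdim q hq).1.trans (local_part hK hdim q hq).2.symm

end K78.FU
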